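-- Team project PG63 (S3664, helper14): package [PM] (helper97, parallel seat).
import Cfsg.Agent.Lib.Helper14.PG63.Defs

set_option autoImplicit false

namespace Cfsg.Agent.Lib.Helper97.PG63

open Cfsg.Agent.Lib.Helper14.PG63 Matrix

universe u

section

variable {F : Type u} [Field F]

/-- Cauchy–Binet for the `2 × 2` minors of a product of `4 × 4` matrices -/
theorem minor_mul (M M' : Matrix (Fin 4) (Fin 4) F) (k l i j : Fin 4) :
    (M * M') k i * (M * M') l j - (M * M') l i * (M * M') k j =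
      (M k 0 * M l 1 - M l 0 * M k 1) * (M' 0 i * M' 1 j - M' 1 i * M' 0 j)
      + (M k 0 * M l 2 - M l 0 * M k 2) * (M' 0 i * M' 2 j - M' 2 i * M' 0 j)
      + (M k 1 * M l 3 - M l 1 * M k 3) * (M' 1 i * M' 3 j - M' 3 i * M' 1 j)
      + (M k 2 * M l 3 - M l 2 * M k 3) * (M' 2 i * M' 3 j - M' 3 i * M' 2 j)
      + (M k 0 * M l 3 - M l 0 * M k 3) * (M' 0 i * M' 3 j - M' 3 i * M' 0 j)
      + (M k 1 * M l 2 - M l 1 * M k 2) * (M' 1 i * M' 2 j - M' 2 i * M' 1 j) := by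
  simp only [Matrix.mul_apply, Fin.sum_univ_four]
  ring

theorem J4_mul_J4 : J4 F * J4 F = 1 := by
  ext i j
  fin_cases i <;> fin_cases j <;> simp [J4, Matrix.mul_apply, Fin.sum_univ_four]

/-- the form relation in the other order -/
theorem form_swap (M : Matrix (Fin 4) (Fin 4) F) (h : Mᵀ * J4 F * M = J4 F) :
    M * J4 F * Mᵀ = J4 F := by
  have h1 : (J4 F * Mᵀ * J4 F) * M = 1 := by
    rw [Matrix.mul_assoc, Matrix.mul_assoc, ← Matrix.mul_assoc Mᵀ, h, J4_mul_J4]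
  have h2 : M * (J4 F * Mᵀ * J4 F) = 1 := mul_eq_one_comm.mp h1
  have h3 : M * J4 F * Mᵀ * J4 F = 1 := by
    rw [← h2]
    simp only [Matrix.mul_assoc]
  calc M * J4 F * Mᵀ = M * J4 F * Mᵀ * (J4 F * J4 F) := by rw [J4_mul_J4, Matrix.mul_one]
    _ = (M * J4 F * Mᵀ * J4 F) * J4 F := by simp only [Matrix.mul_assoc]
    _ = J4 F := by rw [h3, Matrix.one_mul]

theorem form_entry (M' : Matrix (Fin 4) (Fin 4) F) (i j : Fin 4) :
    (M'ᵀ * J4 F * M') i j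
      = M' 3 i * M' 0 j + M' 2 i * M' 1 j + M' 1 i * M' 2 j + M' 0 i * M' 3 j := by
  simp [Matrix.mul_apply, Fin.sum_univ_four, J4]

theorem form_entry' (M : Matrix (Fin 4) (Fin 4) F) (k l : Fin 4) :
    (M * J4 F * Mᵀ) k l
      = M k 3 * M l 0 + M k 2 * M l 1 + M k 1 * M l 2 + M k 0 * M l 3 := by
  simp [Matrix.mul_apply, Fin.sum_univ_four, J4]

theorem J4_pair (p : Fin 4) :
    J4 F (Cfsg.Lie.pairOf p).1 (Cfsg.Lie.pairOf p).2 = 0 := by
  fin_cases p <;> simp [J4, Cfsg.Lie.pairOf]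

theorem star4_apply (M : Matrix (Fin 4) (Fin 4) F) (p r : Fin 4) :
    Cfsg.Lie.star4 M p r
      = M (Cfsg.Lie.pairOf p).1 (Cfsg.Lie.pairOf r).1 * M (Cfsg.Lie.pairOf p).2 (Cfsg.Lie.pairOf r).2
        - M (Cfsg.Lie.pairOf p).2 (Cfsg.Lie.pairOf r).1
          * M (Cfsg.Lie.pairOf p).1 (Cfsg.Lie.pairOf r).2 := rfl

/-- `star4` is multiplicative on form-preserving matrices in characteristic 2 -/
theorem star4_mul [CharP F 2] (M M' : Matrix (Fin 4) (Fin 4) F)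
    (h : Mᵀ * J4 F * M = J4 F) (h' : M'ᵀ * J4 F * M' = J4 F) :
    Cfsg.Lie.star4 (M * M') = Cfsg.Lie.star4 M * Cfsg.Lie.star4 M' := by
  have hs := form_swap M h
  have h2 : (2 : F) = 0 := CharTwo.two_eq_zero
  ext p r
  rw [star4_apply, minor_mul, Matrix.mul_apply, Fin.sum_univ_four]
  simp only [star4_apply]
  have e1 := congrFun (congrFun hs (Cfsg.Lie.pairOf p).1) (Cfsg.Lie.pairOf p).2
  rw [form_entry', J4_pair] at e1
  have e2 := congrFun (congrFun h' (Cfsg.Lie.pairOf r).1) (Cfsg.Lie.pairOf r).2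
  rw [form_entry, J4_pair] at e2
  generalize (Cfsg.Lie.pairOf p).1 = k at *
  generalize (Cfsg.Lie.pairOf p).2 = l at *
  generalize (Cfsg.Lie.pairOf r).1 = i at *
  generalize (Cfsg.Lie.pairOf r).2 = j at *
  have q0 : (Cfsg.Lie.pairOf (0 : Fin 4)) = ((0 : Fin 4), (1 : Fin 4)) := rfl
  have q1 : (Cfsg.Lie.pairOf (1 : Fin 4)) = ((0 : Fin 4), (2 : Fin 4)) := rfl
  have q2 : (Cfsg.Lie.pairOf (2 : Fin 4)) = ((1 : Fin 4), (3 : Fin 4)) := rfl
  have q3 : (Cfsg.Lie.pairOf (3 : Fin 4)) = ((2 : Fin 4), (3 : Fin 4)) := rfl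
  rw [q0, q1, q2, q3]
  simp only
  linear_combination (M k 0 * M l 3 - M l 0 * M k 3) * e2
    + (M' 1 i * M' 2 j - M' 2 i * M' 1 j) * e1
    - ((M k 0 * M l 3 - M l 0 * M k 3) * (M' 3 i * M' 0 j + M' 2 i * M' 1 j)
      + (M k 3 * M l 0 + M k 2 * M l 1) * (M' 1 i * M' 2 j - M' 2 i * M' 1 j)
      + (M k 0 * M l 3 - M l 0 * M k 3) * (M' 1 i * M' 2 j - M' 2 i * M' 1 j)) * h2

theorem map_pow4_mul [CharP F 2] (M M' : Matrix (Fin 4) (Fin 4) F) :
    (M * M').map (fun x => x ^ 4) = M.map (fun x => x ^ 4) * M'.map (fun x => x ^ 4) := by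
  have hf : (fun x : F => x ^ 4) = ⇑((frobenius F 2).comp (frobenius F 2)) := by
    funext x
    simp [frobenius_def, ← pow_mul]
  rw [hf]
  exact Matrix.map_mul

theorem pkgPM : PkgPM.{u} := by
  intro F _ _ M M' hM hM'
  obtain ⟨h1, h2⟩ := hM
  obtain ⟨h1', h2'⟩ := hM'
  refine ⟨?_, ?_⟩
  · rw [Matrix.transpose_mul]
    calc M'ᵀ * Mᵀ * J4 F * (M * M') = M'ᵀ * (Mᵀ * J4 F * M) * M' := by
          simp only [Matrix.mul_assoc]
      _ = J4 F := by rw [h1, h1']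
  · rw [star4_mul M M' h1 h1', h2, h2', map_pow4_mul]

end

end Cfsg.Agent.Lib.Helper97.PG63
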